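import Groth.Agent.Lib.VarDim.Alg
import Mathlib.RingTheory.Jacobson.Ring
import Mathlib.RingTheory.AdjoinRoot
import Mathlib

/-!
# Algebras of small dimension satisfy a polynomial relation in many elements
-/

set_option autoImplicit false
set_option linter.style.haveILetI false

universe u

namespace Groth.Agent.MovLemH7

variable {k : Type u} [Field k]

theorem ringKrullDim_le_of_finite (R S : Type u) [CommRing R] [CommRing S] [Algebra R S] [Module.Finite R S] :
    ringKrullDim S ≤ ringKrullDim R :=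
  Order.krullDim_le_of_strictMono (fun p : PrimeSpectrum S => PrimeSpectrum.comap (algebraMap R S) p)
    VarDim.strictMono_comap_of_isIntegral

theorem exists_relation {r : ℕ} (T : Type u) [CommRing T] [Algebra k T] [Algebra.FiniteType k T]
    (hT : ringKrullDim T < (r : WithBot ℕ∞)) (a : Fin r → T) :
    ∃ h : MvPolynomial (Fin r) k, h ≠ 0 ∧ MvPolynomial.aeval a h = 0 := by
  by_contra hc
  push Not at hc
  have hinj : Function.Injective (MvPolynomial.aeval (R := k) a) := by
    rw [injective_iff_map_eq_zero]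
    exact fun h h0 => by_contra fun hne => hc h hne h0
  obtain ⟨Q, hQ, hQc⟩ := Ideal.exists_comap_eq_of_mem_minimalPrimes_of_injective
    (f := (MvPolynomial.aeval (R := k) a).toRingHom) hinj (⊥ : Ideal (MvPolynomial (Fin r) k))
    (by rw [IsDomain.minimalPrimes_eq_singleton_bot]; rfl)
  haveI := hQ
  let π : MvPolynomial (Fin r) k →ₐ[k] T ⧸ Q := (Ideal.Quotient.mkₐ k Q).comp (MvPolynomial.aeval a)
  have hπ : Function.Injective π := by
    rw [injective_iff_map_eq_zero]
    intro h h0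
    have h1 : h ∈ Q.comap (MvPolynomial.aeval (R := k) a).toRingHom :=
      Ideal.mem_comap.2 (Ideal.Quotient.eq_zero_iff_mem.1
        (show Ideal.Quotient.mk Q (MvPolynomial.aeval a h) = 0 from h0))
    rwa [hQc, Ideal.mem_bot] at h1
  have h1 : (r : Cardinal.{u}) ≤ Algebra.trdeg k (T ⧸ Q) := by
    rw [← VarDim.trdeg_mvPolynomial k r]
    exact trdeg_le_of_injective π hπ
  rw [VarDim.trdeg_eq_tdeg k (T ⧸ Q), Nat.cast_le] at h1
  have h2 : ringKrullDim (T ⧸ Q) ≤ ringKrullDim T :=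
    ringKrullDim_le_of_surjective (Ideal.Quotient.mk Q) Ideal.Quotient.mk_surjective
  rw [VarDim.ringKrullDim_eq_tdeg k (T ⧸ Q)] at h2
  exact absurd ((h2.trans_lt hT).trans_le (by exact_mod_cast h1)) (lt_irrefl _)

open TensorProduct in
theorem exists_avoid_aux {r : ℕ} (B F : Type u) [CommRing B] [Algebra k B] [Algebra.FiniteType k B] [CommRing F]
    [Algebra k F] [Module.Finite k F] (hB : ringKrullDim B < (r : WithBot ℕ∞)) (x : Fin r → B) (c : Fin r → F)
    (τ w : B) (hw : w * τ = 1) (N : ℕ) :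
    ∃ h : MvPolynomial (Fin r) k, h ≠ 0 ∧
      ∀ (L : Type*) [CommRing L] [Algebra k L] (g : Fin r → L) (ρ : B →ₐ[k] L) (ψ : F →ₐ[k] L),
        (∀ i, ρ (x i) = ψ (c i) + ρ τ ^ N * g i) → MvPolynomial.aeval g h = 0 := by
  haveI : Module.Finite B (B ⊗[k] F) := Module.Finite.base_change k B F
  haveI : Algebra.FiniteType k (B ⊗[k] F) :=
    Algebra.FiniteType.trans (inferInstance : Algebra.FiniteType k B) (inferInstance : Algebra.FiniteType B (B ⊗[k] F))
  let iL : B →ₐ[k] B ⊗[k] F := Algebra.TensorProduct.includeLeft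
  let iR : F →ₐ[k] B ⊗[k] F := Algebra.TensorProduct.includeRight
  obtain ⟨h, hne, h0⟩ := exists_relation (k := k) (B ⊗[k] F) ((ringKrullDim_le_of_finite B (B ⊗[k] F)).trans_lt hB)
    (fun i => (iL (x i) - iR (c i)) * iL w ^ N)
  refine ⟨h, hne, fun L _ _ g ρ ψ hρ => ?_⟩
  let φ : B ⊗[k] F →ₐ[k] L := Algebra.TensorProduct.productMap ρ ψ
  have e1 : ∀ b, φ (iL b) = ρ b := fun b => Algebra.TensorProduct.productMap_left_apply (f := ρ) (g := ψ) b
  have e2 : ∀ b, φ (iR b) = ψ b := fun b => Algebra.TensorProduct.productMap_right_apply (f := ρ) (g := ψ) b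
  have hwx : ρ w * ρ τ = 1 := by rw [← map_mul, hw, map_one]
  have ha : (fun i => φ ((iL (x i) - iR (c i)) * iL w ^ N)) = g := by
    funext i
    rw [map_mul, map_sub, map_pow, e1, e2, e1, hρ, add_sub_cancel_left, mul_comm (ρ τ ^ N), mul_assoc, ← mul_pow,
      mul_comm (ρ τ), hwx, one_pow, mul_one]
  rw [← ha, ← MvPolynomial.comp_aeval_apply, h0, map_zero]

/-- The relation that makes translates of points of `V(P)` avoid a small variety. -/
theorem exists_avoid {r : ℕ} (B : Type u) [CommRing B] [Algebra k B] [Algebra.FiniteType k B]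
    (hB : ringKrullDim B < (r : WithBot ℕ∞)) (x : Fin r → B) (τ : B) (hτ : IsUnit τ) (N : ℕ)
    (P : Ideal (MvPolynomial (Fin r) k)) (hP : P.IsMaximal) :
    ∃ h : MvPolynomial (Fin r) k, h ≠ 0 ∧
      ∀ (L : Type*) [CommRing L] [Algebra k L] (g ξ : Fin r → L) (ρ : B →ₐ[k] L),
        (∀ q ∈ P, MvPolynomial.aeval ξ q = 0) → (∀ i, ρ (x i) = ξ i + ρ τ ^ N * g i) →
        MvPolynomial.aeval g h = 0 := by
  haveI : Module.Finite k (MvPolynomial (Fin r) k ⧸ P) := by
    letI : Field (MvPolynomial (Fin r) k ⧸ P) := Ideal.Quotient.field P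
    exact finite_of_finite_type_of_isJacobsonRing k (MvPolynomial (Fin r) k ⧸ P)
  obtain ⟨w, hw⟩ := hτ.exists_left_inv
  obtain ⟨h, hne, hh⟩ := exists_avoid_aux (k := k) B (MvPolynomial (Fin r) k ⧸ P) hB x
    (fun i => Ideal.Quotient.mk P (MvPolynomial.X i)) τ w hw N
  refine ⟨h, hne, fun L _ _ g ξ ρ hξ hρ =>
    hh L g ρ (Ideal.Quotient.liftₐ P (MvPolynomial.aeval ξ) hξ) fun i => ?_⟩
  rw [hρ, show Ideal.Quotient.liftₐ P (MvPolynomial.aeval ξ) hξ (Ideal.Quotient.mk P (MvPolynomial.X i)) = ξ i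
    from MvPolynomial.aeval_X ξ i]

open TensorProduct in
/-- Variant for a product of a small variety with a finite scheme. -/
theorem exists_avoid_tensor {r : ℕ} (A R : Type u) [CommRing A] [Algebra k A] [Algebra.FiniteType k A] [CommRing R]
    [Algebra k R] [Module.Finite k R] (hA : ringKrullDim A < (r : WithBot ℕ∞)) (x : Fin r → A) (τ : R)
    (hτ : IsUnit τ) (N : ℕ) (P : Ideal (MvPolynomial (Fin r) k)) (hP : P.IsMaximal) :
    ∃ h : MvPolynomial (Fin r) k, h ≠ 0 ∧
      ∀ (L : Type*) [CommRing L] [Algebra k L] (g ξ : Fin r → L) (ρA : A →ₐ[k] L) (ρR : R →ₐ[k] L),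
        (∀ q ∈ P, MvPolynomial.aeval ξ q = 0) → (∀ i, ρA (x i) = ξ i + ρR τ ^ N * g i) →
        MvPolynomial.aeval g h = 0 := by
  haveI : Module.Finite A (A ⊗[k] R) := Module.Finite.base_change k A R
  haveI : Algebra.FiniteType k (A ⊗[k] R) :=
    Algebra.FiniteType.trans (inferInstance : Algebra.FiniteType k A) (inferInstance : Algebra.FiniteType A (A ⊗[k] R))
  let iL : A →ₐ[k] A ⊗[k] R := Algebra.TensorProduct.includeLeft
  let iR : R →ₐ[k] A ⊗[k] R := Algebra.TensorProduct.includeRight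
  obtain ⟨h, hne, hh⟩ := exists_avoid (A ⊗[k] R) ((ringKrullDim_le_of_finite A (A ⊗[k] R)).trans_lt hA)
    (fun i => iL (x i)) (iR τ) (hτ.map iR) N P hP
  refine ⟨h, hne, fun L _ _ g ξ ρA ρR hξ hρ =>
    hh L g ξ (Algebra.TensorProduct.productMap ρA ρR) hξ fun i => ?_⟩
  rw [show Algebra.TensorProduct.productMap ρA ρR (iL (x i)) = ρA (x i) from
      Algebra.TensorProduct.productMap_left_apply (f := ρA) (g := ρR) _,
    show Algebra.TensorProduct.productMap ρA ρR (iR τ) = ρR τ from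
      Algebra.TensorProduct.productMap_right_apply (f := ρA) (g := ρR) _]
  exact hρ i

end Groth.Agent.MovLemH7
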