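import Mathlib.RingTheory.MvPolynomial.Homogeneous
import Mathlib.Algebra.Polynomial.Degree.Lemmas
import Mathlib.Algebra.Polynomial.BigOperators
import Mathlib.Algebra.Polynomial.Eval.Degree

/-!
The leading coefficient after a twisted translation.
-/

universe u v

namespace Groth.Agent.MovLemH7

open Polynomial

variable {k : Type u} [Field k] {K : Type v} [Field K] [Algebra k K] {r : ℕ}

/-- The twisted translation. -/
noncomputable def tw (g : Fin r → K) (e : ℕ) : MvPolynomial (Fin r) k →ₐ[k] Polynomial (MvPolynomial (Fin r) K) :=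
  MvPolynomial.aeval fun i : Fin r => C (MvPolynomial.X i) + C (MvPolynomial.C (g i)) * X ^ e

theorem natDegree_lin_le (g : Fin r → K) {e : ℕ} (i : Fin r) :
    (C (MvPolynomial.X i) + C (MvPolynomial.C (g i)) * X ^ e : Polynomial (MvPolynomial (Fin r) K)).natDegree ≤ e :=
  (natDegree_add_le _ _).trans (max_le (by simp) (natDegree_C_mul_X_pow_le _ _))

theorem coeff_lin (g : Fin r → K) {e : ℕ} (he : e ≠ 0) (i : Fin r) :
    (C (MvPolynomial.X i) + C (MvPolynomial.C (g i)) * X ^ e : Polynomial (MvPolynomial (Fin r) K)).coeff e =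
      MvPolynomial.C (g i) := by
  simp [coeff_C, he]

theorem prod_lin (g : Fin r → K) {e : ℕ} (he : e ≠ 0) (μ : Fin r → ℕ) (s : Finset (Fin r)) :
    (∏ i ∈ s, (C (MvPolynomial.X i) + C (MvPolynomial.C (g i)) * X ^ e : Polynomial (MvPolynomial (Fin r) K)) ^ μ i).natDegree
        ≤ (∑ i ∈ s, μ i) * e ∧
      (∏ i ∈ s, (C (MvPolynomial.X i) + C (MvPolynomial.C (g i)) * X ^ e : Polynomial (MvPolynomial (Fin r) K)) ^ μ i).coeff
        ((∑ i ∈ s, μ i) * e) = MvPolynomial.C (∏ i ∈ s, g i ^ μ i) := by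
  classical
  induction s using Finset.induction with
  | empty => simp
  | insert a s ha ih =>
    obtain ⟨h1, h2⟩ := ih
    simp only [Finset.prod_insert ha, Finset.sum_insert ha, add_mul]
    have hd := natDegree_pow_le_of_le (μ a) (natDegree_lin_le g (e := e) a)
    refine ⟨natDegree_mul_le.trans (Nat.add_le_add hd h1), ?_⟩
    rw [coeff_mul_add_eq_of_natDegree_le hd h1, h2, coeff_pow_of_natDegree_le (natDegree_lin_le g a), coeff_lin g he,
      map_mul, map_pow]

theorem tw_monomial (g : Fin r → K) (e : ℕ) (μ : Fin r →₀ ℕ) (c : k) :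
    tw g e (MvPolynomial.monomial μ c) = C (MvPolynomial.C (algebraMap k K c)) *
      ∏ i, (C (MvPolynomial.X i) + C (MvPolynomial.C (g i)) * X ^ e : Polynomial (MvPolynomial (Fin r) K)) ^ μ i := by
  rw [tw, MvPolynomial.aeval_monomial, Finsupp.prod_fintype _ _ fun i => pow_zero _]
  rfl

theorem tw_top (g : Fin r → K) {e : ℕ} (he : e ≠ 0) (p : MvPolynomial (Fin r) k) {d : ℕ} (hp : p.totalDegree ≤ d) :
    (tw g e p).natDegree ≤ d * e ∧
      (tw g e p).coeff (d * e) = MvPolynomial.C (MvPolynomial.aeval g (MvPolynomial.homogeneousComponent d p)) := by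
  classical
  have hμ : ∀ μ ∈ p.support, (tw g e (MvPolynomial.monomial μ (p.coeff μ))).natDegree ≤ μ.degree * e := fun μ _ => by
    rw [tw_monomial, Finsupp.degree_eq_sum]
    exact (natDegree_C_mul_le _ _).trans (prod_lin g he μ Finset.univ).1
  have hdeg : ∀ μ ∈ p.support, μ.degree ≤ d := fun μ hμ => by
    refine le_trans (le_of_eq ?_) ((MvPolynomial.le_totalDegree hμ).trans hp)
    exact Finsupp.degree_apply μ
  have key : tw g e p = ∑ μ ∈ p.support, tw g e (MvPolynomial.monomial μ (p.coeff μ)) := by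
    conv_lhs => rw [p.as_sum, map_sum]
  rw [key]
  refine ⟨natDegree_sum_le_of_forall_le _ _ fun μ h => (hμ μ h).trans (Nat.mul_le_mul_right e (hdeg μ h)), ?_⟩
  rw [finsetSum_coeff, MvPolynomial.homogeneousComponent_apply, map_sum, map_sum, Finset.sum_filter]
  refine Finset.sum_congr rfl fun μ h => ?_
  split_ifs with hd
  · rw [tw_monomial, coeff_C_mul, ← hd, Finsupp.degree_eq_sum, (prod_lin g he μ Finset.univ).2,
      MvPolynomial.aeval_monomial, map_mul, Finsupp.prod_fintype _ _ fun i => pow_zero _]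
  · exact coeff_eq_zero_of_natDegree_lt ((hμ μ h).trans_lt
      (Nat.mul_lt_mul_of_pos_right (lt_of_le_of_ne (hdeg μ h) hd) (Nat.pos_of_ne_zero he)))

/-- Degree and leading coefficient of the twisted translate of a polynomial. -/
theorem exists_leading (f : Polynomial (MvPolynomial (Fin r) k)) (hf : f ≠ 0) :
    ∃ h : MvPolynomial (Fin r) k, h ≠ 0 ∧ ∃ d₀ j₀ : ℕ, j₀ ≤ f.natDegree ∧
      (d₀ = 0 → j₀ = 0 → f = C (f.coeff 0) ∧ (f.coeff 0).totalDegree = 0) ∧
      ∀ e : ℕ, f.natDegree < e → ∀ (L : Type v) [Field L] [Algebra k L] (g : Fin r → L), MvPolynomial.aeval g h ≠ 0 →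
        ∃ c : L, c ≠ 0 ∧ (f.eval₂ (tw g e).toRingHom X).natDegree = d₀ * e + j₀ ∧
          (f.eval₂ (tw g e).toRingHom X).leadingCoeff = MvPolynomial.C c := by
  classical
  have hne : f.support.Nonempty := support_nonempty.mpr hf
  set d₀ := f.support.sup fun j => (f.coeff j).totalDegree with hd₀
  obtain ⟨j₁, hj₁, hj₁'⟩ := Finset.exists_mem_eq_sup _ hne fun j => (f.coeff j).totalDegree
  have hne' : (f.support.filter fun j => (f.coeff j).totalDegree = d₀).Nonempty :=
    ⟨j₁, Finset.mem_filter.mpr ⟨hj₁, hj₁'.symm⟩⟩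
  set j₀ := (f.support.filter fun j => (f.coeff j).totalDegree = d₀).max' hne' with hj₀
  obtain ⟨hj₀s, hj₀d⟩ := Finset.mem_filter.mp ((f.support.filter _).max'_mem hne')
  refine ⟨MvPolynomial.homogeneousComponent d₀ (f.coeff j₀), ?_, d₀, j₀, le_natDegree_of_mem_supp _ hj₀s, ?_, ?_⟩
  · obtain ⟨μ, hμ, hμd⟩ := Finset.exists_mem_eq_sup _
      (MvPolynomial.support_nonempty.mpr (mem_support_iff.mp hj₀s)) fun s : Fin r →₀ ℕ => s.sum fun _ e => e
    intro h0
    have := congrArg (MvPolynomial.coeff μ) h0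
    rw [MvPolynomial.coeff_homogeneousComponent, if_pos, MvPolynomial.coeff_zero] at this
    · exact MvPolynomial.mem_support_iff.mp hμ this
    · rw [← hj₀d]; exact (Finsupp.degree_apply μ).trans hμd.symm
  · intro h0 hj
    have hall : ∀ j ∈ f.support, (f.coeff j).totalDegree = d₀ := fun j hj => by
      have := Finset.le_sup (f := fun j => (f.coeff j).totalDegree) hj
      simp only [← hd₀, h0] at this ⊢
      omega
    refine ⟨eq_C_of_natDegree_eq_zero ?_, ?_⟩
    · refine Nat.eq_zero_of_le_zero (natDegree_le_iff_coeff_eq_zero.mpr fun n hn => ?_)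
      by_contra hc
      have := Finset.le_max' (f.support.filter fun j => (f.coeff j).totalDegree = d₀) n
        (Finset.mem_filter.mpr ⟨mem_support_iff.mpr hc, hall n (mem_support_iff.mpr hc)⟩)
      rw [← hj₀, hj] at this
      omega
    · have := hall j₀ hj₀s; rw [h0] at this; exact (congrArg (fun j => (f.coeff j).totalDegree) hj).symm.trans this
  · intro e he L _ _ g hg
    have he0 : e ≠ 0 := by omega
    refine ⟨_, hg, ?_⟩
    set F := f.eval₂ (tw g e).toRingHom X
    have hF : F = ∑ j ∈ f.support, tw g e (f.coeff j) * X ^ j := eval₂_eq_sum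
    have hterm : ∀ j ∈ f.support, j ≠ j₀ → (tw g e (f.coeff j) * X ^ j).natDegree < d₀ * e + j₀ := by
      intro j hj hne
      refine natDegree_mul_le.trans_lt ?_
      rw [natDegree_X_pow]
      have h1 := (tw_top g he0 (f.coeff j) le_rfl).1
      have hle : (f.coeff j).totalDegree ≤ d₀ := Finset.le_sup (f := fun j => (f.coeff j).totalDegree) hj
      have hjn := le_natDegree_of_mem_supp j hj
      rcases hle.eq_or_lt with heq | hlt
      · have : j ≤ j₀ := Finset.le_max' _ _ (Finset.mem_filter.mpr ⟨hj, heq⟩)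
        rw [heq] at h1
        omega
      · have : ((f.coeff j).totalDegree + 1) * e ≤ d₀ * e := Nat.mul_le_mul_right e hlt
        rw [Nat.add_mul, one_mul] at this
        omega
    have hcoeff : F.coeff (d₀ * e + j₀) = MvPolynomial.C (MvPolynomial.aeval g (MvPolynomial.homogeneousComponent d₀ (f.coeff j₀))) := by
      rw [hF, finsetSum_coeff, Finset.sum_eq_single j₀ (fun j hj hne => coeff_eq_zero_of_natDegree_lt (hterm j hj hne))
        (fun h => absurd hj₀s h), coeff_mul_X_pow, (tw_top g he0 (f.coeff j₀) hj₀d.le).2]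
    have hle : F.natDegree ≤ d₀ * e + j₀ := by
      rw [hF]
      refine natDegree_sum_le_of_forall_le _ _ fun j hj => ?_
      by_cases h : j = j₀
      · subst h
        refine natDegree_mul_le.trans ?_
        rw [natDegree_X_pow]
        exact Nat.add_le_add_right (tw_top g he0 _ hj₀d.le).1 _
      · exact (hterm j hj h).le
    have hnat : F.natDegree = d₀ * e + j₀ :=
      natDegree_eq_of_le_of_coeff_ne_zero hle (by rw [hcoeff, ne_eq, MvPolynomial.C_eq_zero]; exact hg)
    exact ⟨hnat, by rw [leadingCoeff, hnat, hcoeff]⟩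

end Groth.Agent.MovLemH7
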